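import Cfsg.Agent.Lib.Fusion5248.GlueWreathed
import Cfsg.Agent.Lib.Fusion5248.Shapes.SameNorm
import Cfsg.Agent.Lib.Fusion5248.Shapes.Wreathed
import Cfsg.Agent.Lib.Fusion5248.Realisers.Dihedral
import Cfsg.Agent.Lib.Fusion5248.Realisers.SemiDihedralFlips
import Cfsg.Agent.Lib.Fusion5248.Realisers.WreathedLinear
import Mathlib.LinearAlgebra.Matrix.ProjectiveSpecialLinearGroup

/-!
Systems over dihedral, semidihedral and wreathed groups in which every candidate is flipped are the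
systems of `PSL₂(q)` and `PSL₃(q)`.
-/

set_option autoImplicit false
set_option linter.style.haveILetI false

universe u

open Cfsg Cfsg.FusionSystem
open scoped MatrixGroups

namespace CfsgLib.Fusion5248

open CfsgLib.Fusion CfsgLib.TwoFusion

section Generic

variable {Ω : Type u} [Group Ω] {S : Subgroup Ω} [Finite S] {F : Cfsg.FusionSystem S}
variable {G : Type*} [Group G] [Finite G]

/-- Agreement on the candidates gives a realisation by the given group. -/
theorem isRealizedBy_of (hS : IsPGroup 2 S) (hF : F.IsSaturated 2)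
    (hodd : ∀ α : MulAut ↥S, Odd (orderOf α) → α = 1) {E1 E2 : Subgroup ↥S} (hcov : Cover E1 E2)
    {ι : S →* G} (hι : IsSylowEmb ι) (h1 : autF F E1 = autG ι E1) (h2 : autF F E2 = autG ι E2) :
    F.IsRealizedBy ι := by
  haveI : Fact (Nat.Prime 2) := ⟨Nat.prime_two⟩
  have hF' : (sys ι hι.1).IsSaturated 2 := realized_isSaturated (sys_isRealizedBy ι hι.1) hι.2
  rw [← autF_sys ι hι.1] at h1 h2
  have ha := le_of_candidates hS hF hF' hodd hcov (fun _ => h1.le) (fun _ => h2.le)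
  have hb := le_of_candidates hS hF' hF hodd hcov (fun _ => h1.ge) (fun _ => h2.ge)
  refine ⟨hι.1, fun P hP φ hφ => ?_⟩
  rw [← (sys_isRealizedBy ι hι.1).2 P hP φ hφ]
  exact ⟨fun h => ha P h, fun h => hb P h⟩

/-- A candidate flipped on both sides has the same automizer on both sides. -/
theorem autF_eq_autG (hS : IsPGroup 2 S) (hF : F.IsSaturated 2) {E : Subgroup ↥S} (hc : Canon E)
    (hn : SameNorm E) {ι : S →* G} (hι : IsSylowEmb ι) (hf : OddAut (autF F E)) (hg : Flips ι E) :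
    autF F E = autG ι E := by
  haveI : Fact (Nat.Prime 2) := ⟨Nat.prime_two⟩
  have hF' : (sys ι hι.1).IsSaturated 2 := realized_isSaturated (sys_isRealizedBy ι hι.1) hι.2
  rw [flips_iff ι hι.1, ← autF_sys ι hι.1] at hg
  rw [← autF_sys ι hι.1]
  exact autF_eq_of_canon hS hF hF' hc hn hf hg

/-- The twist making the automizers of a twisted candidate agree. -/
theorem exists_twist (hS : IsPGroup 2 S) (hF : F.IsSaturated 2) {E1 : Subgroup ↥S}
    (hn1 : SameNorm E1)
    (htw : ∀ A A' : Subgroup (MulAut E1), autInducedBy (⊤ : Subgroup ↥S) E1 ≤ A →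
      autInducedBy (⊤ : Subgroup ↥S) E1 ≤ A' →
      ¬ 2 ∣ (autInducedBy (⊤ : Subgroup ↥S) E1).relIndex A →
      ¬ 2 ∣ (autInducedBy (⊤ : Subgroup ↥S) E1).relIndex A' → OddAut A → OddAut A' →
      ∃ β : MulAut ↥S, ∃ hβ : E1.map (β : ↥S →* ↥S) = E1, ∀ a : MulAut E1, a ∈ A ↔
        MulAut.congr ((β.subgroupMap E1).trans (MulEquiv.subgroupCongr hβ)) a ∈ A')
    {ι : S →* G} (hι : IsSylowEmb ι) (hf : OddAut (autF F E1)) (hg : Flips ι E1) :
    ∃ β : MulAut ↥S, IsSylowEmb (ι.comp β.toMonoidHom) ∧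
      autF F E1 = autG (ι.comp β.toMonoidHom) E1 := by
  haveI : Fact (Nat.Prime 2) := ⟨Nat.prime_two⟩
  have hF' : (sys ι hι.1).IsSaturated 2 := realized_isSaturated (sys_isRealizedBy ι hι.1) hι.2
  rw [flips_iff ι hι.1, ← autF_sys ι hι.1] at hg
  obtain ⟨β, hβ, hA⟩ := htw _ _ (autInducedBy_top_le_autF F E1)
    (autInducedBy_top_le_autF (sys ι hι.1) E1) (sylow_autF hS hF hn1) (sylow_autF hS hF' hn1) hf hg
  obtain ⟨P, hP⟩ := hι.2
  refine ⟨β, ⟨hι.1.comp β.injective, P, hP.trans (range_comp_aut ι β).symm⟩, ?_⟩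
  set e := (β.subgroupMap E1).trans (MulEquiv.subgroupCongr hβ)
  ext a
  rw [hA a, autF_sys ι hι.1]
  constructor
  · rintro ⟨g, hg⟩
    refine ⟨g, fun x => ?_⟩
    have := hg (e x)
    rwa [show MulAut.congr e a (e x) = e (a x) by simp] at this
  · rintro ⟨g, hg⟩
    refine ⟨g, fun y => ?_⟩
    obtain ⟨x, rfl⟩ := e.surjective y
    rw [show MulAut.congr e a (e x) = e (a x) by simp]
    exact hg x

omit [Finite G] in
theorem isSylowEmb_comp_equiv [Finite G] {T H : Type*} [Group T] [Group H] {f : T →* G}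
    (hf : IsSylowEmb f) (π : G →* H) (hπ : Function.Bijective π) : IsSylowEmb (π.comp f) := by
  haveI : Fact (Nat.Prime 2) := ⟨Nat.prime_two⟩
  obtain ⟨P, hP⟩ := hf.2
  refine ⟨hπ.1.comp hf.1, P.mapSurjective hπ.2, ?_⟩
  rw [Sylow.coe_mapSurjective, hP, MonoidHom.range_comp]

omit [Finite G] in
theorem isSylowEmb_of_mulEquiv [Finite G] {T A : Type*} [Group T] [Group A] {j : A →* G}
    (hj : IsSylowEmb j) (e : T ≃* A) : IsSylowEmb (j.comp e.toMonoidHom) := by
  obtain ⟨P, hP⟩ := hj.2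
  refine ⟨hj.1.comp e.injective, P, ?_⟩
  rw [hP, MonoidHom.range_comp, MonoidHom.range_eq_top.2 (show Function.Surjective e.toMonoidHom from e.surjective),
    ← MonoidHom.range_eq_map]

end Generic

variable {Ω : Type u} [Group Ω] {S : Subgroup Ω} [Finite S] {F : Cfsg.FusionSystem S}

/-- The conclusion: a realisation by `PSL₂` or `PSL₃`. -/
abbrev IsProjLinear (F : Cfsg.FusionSystem S) : Prop :=
  ∃ (K : Type) (_ : Field K) (_ : Fintype K) (q : ℕ), Fintype.card K = q ∧ Odd q ∧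
    (((q % 8 = 1 ∨ q % 8 = 7) ∧ ∃ ι : ↥S →* Matrix.ProjectiveSpecialLinearGroup (Fin 2) K,
      F.IsRealizedBy ι ∧ ∃ T : Sylow 2 (Matrix.ProjectiveSpecialLinearGroup (Fin 2) K),
        (T : Subgroup (Matrix.ProjectiveSpecialLinearGroup (Fin 2) K)) = ι.range) ∨
    (∃ ι : ↥S →* Matrix.ProjectiveSpecialLinearGroup (Fin 3) K,
      F.IsRealizedBy ι ∧ ∃ T : Sylow 2 (Matrix.ProjectiveSpecialLinearGroup (Fin 3) K),
        (T : Subgroup (Matrix.ProjectiveSpecialLinearGroup (Fin 3) K)) = ι.range))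

theorem center_sl_three_trivial {q : ℕ} [Fact q.Prime] (h : q % 3 = 2) :
    Function.Bijective (QuotientGroup.mk'
      (Subgroup.center (Matrix.SpecialLinearGroup (Fin 3) (ZMod q)))) := by
  refine ⟨?_, QuotientGroup.mk'_surjective _⟩
  rw [← MonoidHom.ker_eq_bot_iff, QuotientGroup.ker_mk', ← Subgroup.card_eq_one,
    Linear.card_center_SL, ZMod.card, Fintype.card_fin]
  exact (Nat.Prime.coprime_iff_not_dvd Nat.prime_three).mpr (fun hd => by omega) |>.symm

/-- A dihedral Sylow embedding into `PSL₂(q)`, `q ≡ 1 [MOD 8]`. -/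
theorem exists_psl_dihedral {k : ℕ} (hk : 2 ≤ k) :
    ∃ (q : ℕ) (_ : Fact q.Prime), Odd q ∧ q % 8 = 1 ∧
      ∃ j : DihedralGroup (2 ^ k) →* Matrix.ProjectiveSpecialLinearGroup (Fin 2) (ZMod q),
        IsSylowEmb j ∧
          commutator (Matrix.ProjectiveSpecialLinearGroup (Fin 2) (ZMod q)) = ⊤ := by
  obtain ⟨q, r, hq, h3, -, hr, hqr⟩ := exists_prime_sub_one (a := k + 1) (by omega)
  haveI : Fact q.Prime := ⟨hq⟩
  have hodd : Odd q := hq.odd_of_ne_two (by omega)
  obtain ⟨r', hr', hc⟩ := card_sl (F := ZMod q) (by omega) hr hqr (ZMod.card q)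
  have hF : Odd (Fintype.card (ZMod q)) := by rwa [ZMod.card]
  obtain ⟨f, hf⟩ := exists_emb_sl (F := ZMod q) hF (k := k) hr' hc
  obtain ⟨H, _, _, π, j, hπ, hj, -, hker⟩ := QuatQuotient.exists_quotient hf (mem_center_of_sq hF)
  have hcen : π.ker = Subgroup.center SL(2, ZMod q) := by
    rw [hker]
    refine Subgroup.eq_of_le_of_card_ge ?_ ?_
    · rintro _ ⟨x, hx, rfl⟩
      exact mem_center_of_sq hF _ (by rw [← map_mul, QuatQuotient.mem_ker.mp hx, map_one])
    · rw [Subgroup.card_map_of_injective hf.1, QuatQuotient.card_ker, Linear.card_center_SL,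
        Fintype.card_fin]
      exact Nat.le_of_dvd two_pos (Nat.gcd_dvd_right _ _)
  let c : H ≃* Matrix.ProjectiveSpecialLinearGroup (Fin 2) (ZMod q) :=
    (QuotientGroup.quotientKerEquivOfSurjective π hπ).symm.trans
      (QuotientGroup.quotientMulEquivOfEq hcen)
  refine ⟨q, ⟨hq⟩, hodd, ?_, c.toMonoidHom.comp j,
    isSylowEmb_comp_equiv hj _ c.bijective, ?_⟩
  · obtain ⟨d, rfl⟩ : ∃ d, k = d + 2 := ⟨k - 2, by omega⟩
    rw [hqr, show 2 ^ (d + 2 + 1) * r = 8 * (2 ^ d * r) by ring]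
    omega
  · have hp : commutator SL(2, ZMod q) = ⊤ := perfect_sl (by rw [Nat.card_zmod]; omega)
    rw [commutator_def] at hp ⊢
    rw [← Subgroup.map_top_of_surjective _ (QuotientGroup.mk'_surjective
      (Subgroup.center SL(2, ZMod q))), ← Subgroup.map_commutator, hp]

/-- Dihedral with every four-group flipped: `PSL₂(q)`. -/
theorem dihedral_realizedBy (hS : IsPGroup 2 S) (hF : F.IsSaturated 2) {m : ℕ} (hm : 4 ≤ m)
    (hm2 : ∃ k, m = 2 ^ k) (e : ↥S ≃* DihedralGroup m)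
    (hflip : ∀ E : Subgroup ↥S, IsKleinFour E → OddAut (autF F E)) : IsProjLinear F := by
  obtain ⟨k, rfl⟩ := hm2
  obtain ⟨q, hq, hodd, h8, j, hj, hp⟩ := exists_psl_dihedral (k := k) (by
    by_contra h; interval_cases k <;> simp at hm)
  haveI := hq
  have hι := isSylowEmb_of_mulEquiv hj e
  obtain ⟨E1, E2, h1, h2, hc, hconj, β, hb1, hb2⟩ := Dihedral.cover hm ⟨k, rfl⟩ e
  have hsw : Nat.card (Subgroup.normalizer (E1 : Set ↥S)) =
      Nat.card (Subgroup.normalizer (E2 : Set ↥S)) := by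
    rw [← (IsCj.symm hb1).card_normalizer]
    show _ = Nat.card (Subgroup.normalizer ((E1.map β.toMonoidHom : Subgroup ↥S) : Set ↥S))
    rw [← Subgroup.map_equiv_normalizer_eq E1 β, Subgroup.card_map_of_injective β.injective]
  have hn : SameNorm E1 ∧ SameNorm E2 := by
    constructor <;> intro R ⟨f⟩
    · rcases hconj R (isKleinFour_of_equiv h1 f) with h | h <;>
        rw [← (show IsCj _ R from h).card_normalizer]
      exact hsw.ge
    · rcases hconj R (isKleinFour_of_equiv h2 f) with h | h <;>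
        rw [← (show IsCj _ R from h).card_normalizer]
      exact hsw.le
  have hcan : ∀ E : Subgroup ↥S, IsKleinFour E → Canon E := fun E hE A A' hA hA' _ _ ho ho' =>
    (Dihedral.automizer_eq_top hm ⟨k, rfl⟩ e E hE A hA ho).trans
      (Dihedral.automizer_eq_top hm ⟨k, rfl⟩ e E hE A' hA' ho').symm
  have hfl : ∀ E : Subgroup ↥S, IsKleinFour E → Flips _ E := fun E hE =>
    dihedral_flips_of_perfect hι hm e hp hE
  refine ⟨ZMod q, inferInstance, inferInstance, q, ZMod.card q, hodd,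
    Or.inl ⟨Or.inl h8, _, ?_, hι.2⟩⟩
  exact isRealizedBy_of hS hF (Dihedral.aut_odd hm ⟨k, rfl⟩ e) (cover_of hc) hι
    (autF_eq_autG hS hF (hcan _ h1) hn.1 hι (hflip _ h1) (hfl _ h1))
    (autF_eq_autG hS hF (hcan _ h2) hn.2 hι (hflip _ h2) (hfl _ h2))

/-- Semidihedral with every candidate flipped: `PSL₃(q)`. -/
theorem semidihedral_realizedBy (hS : IsPGroup 2 S) (hF : F.IsSaturated 2)
    (h : Cfsg.IsQuasiDihedral ↥S)
    (hV : ∀ E : Subgroup ↥S, IsKleinFour E → OddAut (autF F E))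
    (hQ : ∀ E : Subgroup ↥S, Nonempty (E ≃* QuaternionGroup 2) → OddAut (autF F E)) :
    IsProjLinear F := by
  obtain ⟨n, hn, hc, -⟩ := id h
  obtain ⟨q, hq, -, h3, hodd, hT⟩ := Carrier.exists_qd_prime hn
  haveI := hq
  obtain ⟨f, r, hf, hr, hcard⟩ := hT ↥S h hc
  have hψ : IsSylowEmb ((TwoFusion.PSLThreeInvolution.blk (F := ZMod q)).comp f) :=
    Carrier.isSylowEmb_comp hf _ Carrier.blk_injective hcard hr
      (Carrier.odd_cofactor (F := ZMod q) (by rw [ZMod.card]; exact hodd)) Carrier.card_sl_three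
  have hι := isSylowEmb_comp_equiv hψ _ (center_sl_three_trivial (q := q) h3)
  have hp : commutator (Matrix.ProjectiveSpecialLinearGroup (Fin 3) (ZMod q)) = ⊤ := by
    have hp : commutator (Matrix.SpecialLinearGroup (Fin 3) (ZMod q)) = ⊤ :=
      Linear.commutator_SL_eq_top (Or.inl (by simp))
    rw [commutator_def] at hp ⊢
    rw [← Subgroup.map_top_of_surjective _ (QuotientGroup.mk'_surjective
      (Subgroup.center (Matrix.SpecialLinearGroup (Fin 3) (ZMod q)))), ← Subgroup.map_commutator, hp]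
  obtain ⟨hfV, hfQ⟩ := SDFlips.flips_of_perfect hι h hp
  obtain ⟨E1, E2, h1, h2, hcv, -, -⟩ := SemiDihedral.cover h
  have hcan : ∀ E : Subgroup ↥S, (IsKleinFour E ∨ Nonempty (E ≃* QuaternionGroup 2)) → Canon E :=
    fun E hE A A' hA hA' _ _ ho ho' =>
    (SemiDihedral.automizer_eq_top h E hE A hA ho).trans
      (SemiDihedral.automizer_eq_top h E hE A' hA' ho').symm
  refine ⟨ZMod q, inferInstance, inferInstance, q, ZMod.card q, hodd, Or.inr ⟨_, ?_, hι.2⟩⟩
  exact isRealizedBy_of hS hF (SemiDihedral.aut_odd h) (cover_of hcv) hι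
    (autF_eq_autG hS hF (hcan _ (Or.inl h1)) (SemiDihedral.sameNorm h E1 (Or.inl h1)) hι (hV _ h1)
      (hfV _ h1))
    (autF_eq_autG hS hF (hcan _ (Or.inr h2)) (SemiDihedral.sameNorm h E2 (Or.inr h2)) hι (hQ _ h2)
      (hfQ _ h2))

/-- Wreathed with every candidate flipped: `PSL₃(q)`. -/
theorem wreathed_realizedBy (hS : IsPGroup 2 S) (hF : F.IsSaturated 2) (h : Cfsg.IsWreathed ↥S)
    (hA : ∀ E : Subgroup ↥S, AbType E → OddAut (autF F E))
    (hQ : ∀ E : Subgroup ↥S, QZType E → OddAut (autF F E)) : IsProjLinear F := by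
  obtain ⟨D⟩ := exists_wrGens h
  obtain ⟨q, r, hq, h3, h32, hr, hqr⟩ := exists_prime_sub_one (a := D.k + 2) (by omega)
  haveI : Fact q.Prime := ⟨hq⟩
  have hodd : Odd q := hq.odd_of_ne_two (by omega)
  have hK : Odd (Fintype.card (ZMod q)) := by rwa [ZMod.card]
  have h2 : (2 : ZMod q) ≠ 0 := GLTwoSylow.two_ne_zero_of_odd hK
  obtain ⟨ζ, hζ⟩ := GLTwoSylow.exists_unit_order (F := ZMod q) (d := 2 ^ (D.k + 2))
    ⟨r, by rw [ZMod.card, hqr, Nat.add_sub_cancel]⟩
  have hcard : Nat.card (GL (Fin 2) (ZMod q)) =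
      2 ^ (2 * (D.k + 2) + 1) * (q * r ^ 2 * (2 ^ (D.k + 1) * r + 1)) := by
    rw [GLTwoSylow.card_gl_two, ZMod.card,
      show q - 1 = 2 ^ (D.k + 2) * r by omega,
      show q + 1 = 2 * (2 ^ (D.k + 1) * r + 1) by rw [hqr, pow_succ]; ring]
    ring
  have hr' : Odd (q * r ^ 2 * (2 ^ (D.k + 1) * r + 1)) :=
    (hodd.mul hr.pow).mul
      (Nat.even_mul.mpr (Or.inl (Nat.even_pow.mpr ⟨even_two, by omega⟩))).add_one
  obtain ⟨f, hf, hu, hz⟩ := WreathedLinear.exists_emb D hζ hr' hcard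
  have hπ := center_sl_three_trivial (q := q) h32
  set π := QuotientGroup.mk' (Subgroup.center (Matrix.SpecialLinearGroup (Fin 3) (ZMod q)))
  set blk := (TwoFusion.PSLThreeInvolution.blk (F := ZMod q))
  have hι : IsSylowEmb (π.comp (blk.comp f)) :=
    isSylowEmb_comp_equiv (Carrier.isSylowEmb_comp hf _ Carrier.blk_injective hcard hr'
      (Carrier.odd_cofactor hK) Carrier.card_sl_three) π hπ
  have hqz : ∀ E : Subgroup ↥S, Wreathed.IsQuatCenter E → Flips (π.comp (blk.comp f)) E := by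
    intro E hE
    obtain ⟨e, rfl⟩ := (Wreathed.isQuatCenter_iff D).mp hE
    exact WreathedLinear.flips_comp_injective _ π hπ.1
      (WreathedLinear.flips_comp_injective f blk Carrier.blk_injective
        (((Wreathed.isCj_qzSub D 0 e).flips_iff f).mp (WreathedLinear.flips_qz D hζ h2 hu hz)))
  obtain ⟨E1, E2, hE1c, hE1i, hE2, hcov, hE1u, -⟩ := Wreathed.cover h
  have hbase : Flips (π.comp (blk.comp f)) E1 := by
    rw [← hE1u D.base D.base_comm D.index_base]
    exact WreathedLinear.flips_comp_injective _ π hπ.1 (WreathedLinear.flips_base D hζ hu)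
  have hn1 : SameNorm E1 := Wreathed.sameNorm_base hE1i
  obtain ⟨β, hι', h1⟩ := exists_twist hS hF hn1 (Wreathed.base_twist h hE1c hE1i) hι
    (hA E1 ⟨hE1c, hE1i⟩) hbase
  refine ⟨ZMod q, inferInstance, inferInstance, q, ZMod.card q, hodd, Or.inr ⟨_, ?_, hι'.2⟩⟩
  refine isRealizedBy_of hS hF (Wreathed.aut_odd h) hcov hι' h1
    (autF_eq_autG hS hF (Wreathed.canon_quatCenter h hE2) (Wreathed.sameNorm_quatCenter h hE2) hι'
      (hQ E2 hE2) ?_)
  rw [flips_comp]
  exact hqz _ (Wreathed.isQuatCenter_map hE2 β)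

end CfsgLib.Fusion5248
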